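import Mathlib

set_option autoImplicit false

/-!
Linear part of: an odd order group `X` with a four-group `V` of automorphisms, `C_X(V) = 1` and abelian
`C_X(s)`, has nilpotent derived group (helper22, for helper5's S3322).
-/

namespace Cfsg.Agent.H22N

open Submodule

variable {F : Type*} [Field F] {V : Type*} [AddCommGroup V] [Module F V] {H : Type*} [Group H]
  (ρ : Representation F H V)

/-- `[V, C_N(s)]` -/
def br (N : Subgroup H) (s : H) : Submodule F V :=
  span F {y | ∃ n ∈ N, s * n = n * s ∧ ∃ m : V, y = ρ n m - m}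

theorem rmul (x y : H) (m : V) : ρ (x * y) m = ρ x (ρ y m) := by
  rw [map_mul]; rfl

theorem rone (m : V) : ρ 1 m = m := by
  rw [map_one]; rfl

variable {ρ} {N : Subgroup H}

theorem mem_br {s n : H} (hn : n ∈ N) (hs : s * n = n * s) (m : V) : ρ n m - m ∈ br ρ N s :=
  subset_span ⟨n, hn, hs, m, rfl⟩

/-- `s` acts as `-1` -/
theorem br_neg {s : H} (hss : s * s = 1)
    (hst : ∀ n ∈ N, s * n = n * s → ∀ m, ρ s m = m → ρ n m = m) {y : V} (hy : y ∈ br ρ N s) :
    ρ s y = - y := by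
  induction hy using Submodule.span_induction with
  | mem y hy =>
    obtain ⟨n, hn, hs, m, rfl⟩ := hy
    have h1 : ρ s (m + ρ s m) = m + ρ s m := by
      rw [map_add, ← rmul, hss, rone, add_comm]
    have h2 := hst n hn hs _ h1
    rw [map_add, ← rmul, ← hs, rmul] at h2
    rw [map_sub]
    have h3 : ρ s (ρ n m) - ρ s m = - (ρ n m - m) := by
      rw [eq_neg_iff_add_eq_zero]
      have : ρ s (ρ n m) - ρ s m + (ρ n m - m) = (ρ n m + ρ s (ρ n m)) - (m + ρ s m) := by abel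
      rw [this, h2, sub_self]
    exact h3
  | zero => simp
  | add x y _ _ hx hy => rw [map_add, hx, hy]; abel
  | smul c x _ hx => rw [map_smul, hx, smul_neg]

/-- `[V, C_N(s), C_N(s)]` -/
def br2 (ρ : Representation F H V) (N : Subgroup H) (s : H) : Submodule F V :=
  span F {y | ∃ n ∈ N, s * n = n * s ∧ ∃ m ∈ br ρ N s, y = ρ n m - m}

theorem comm_pow {s n : H} (hs : s * n = n * s) (i : ℕ) : s * n ^ i = n ^ i * s :=
  (show Commute s n from hs).pow_right i

theorem br_le_br2 {s : H} (hr : ∀ n ∈ N, ∃ r : ℕ, (r : F) ≠ 0 ∧ n ^ r = 1) : br ρ N s ≤ br2 ρ N s := by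
  unfold br
  rw [span_le]
  rintro _ ⟨n, hn, hs, m, rfl⟩
  obtain ⟨r, hr0, hr1⟩ := hr n hn
  set m' : V := ∑ i ∈ Finset.range r, (m - ρ (n ^ i) m) with hm'
  have h1 : m' ∈ br ρ N s := by
    apply Submodule.sum_mem
    intro i _
    have := neg_mem (mem_br (ρ := ρ) (N.pow_mem hn i) (comm_pow hs i) m)
    rwa [neg_sub] at this
  have h2 : ρ n m' - m' = (r : F) • (ρ n m - m) := by
    have h3 : ρ n m' - m' = ∑ i ∈ Finset.range r, ((ρ n m - m) - (ρ (n ^ (i + 1)) m - ρ (n ^ i) m)) := by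
      rw [hm', map_sum, ← Finset.sum_sub_distrib]
      apply Finset.sum_congr rfl
      intro i _
      rw [map_sub, ← rmul, ← pow_succ']
      abel
    rw [h3, Finset.sum_sub_distrib, Finset.sum_const, Finset.card_range,
      Finset.sum_range_sub (fun i => ρ (n ^ i) m), hr1, pow_zero, sub_self, sub_zero, Nat.cast_smul_eq_nsmul]
  have h4 : (r : F) • (ρ n m - m) ∈ br2 ρ N s := by
    rw [← h2]
    exact subset_span ⟨n, hn, hs, m', h1, rfl⟩
  have h5 := smul_mem _ (r : F)⁻¹ h4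
  rwa [smul_smul, inv_mul_cancel₀ hr0, one_smul] at h5

/-- invariance under elements commuting with `C_N(s)` -/
theorem br_inv_comm {s x : H} (hx : ∀ n ∈ N, s * n = n * s → x * n = n * x) {y : V} (hy : y ∈ br ρ N s) :
    ρ x y ∈ br ρ N s := by
  induction hy using Submodule.span_induction with
  | mem y hy =>
    obtain ⟨n, hn, hs, m, rfl⟩ := hy
    rw [map_sub, ← rmul, hx n hn hs, rmul]
    exact mem_br hn hs _
  | zero => simp
  | add x y _ _ hx hy => rw [map_add]; exact add_mem hx hy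
  | smul c x _ hx => rw [map_smul]; exact smul_mem _ _ hx

/-- invariance under elements commuting with `s` and normalizing `N` -/
theorem br_inv_norm {s x : H} (hxN : ∀ n ∈ N, x * n * x⁻¹ ∈ N) (hxs : s * x = x * s) {y : V} (hy : y ∈ br ρ N s) :
    ρ x y ∈ br ρ N s := by
  induction hy using Submodule.span_induction with
  | mem y hy =>
    obtain ⟨n, hn, hs, m, rfl⟩ := hy
    have h1 : x * n = (x * n * x⁻¹) * x := by group
    rw [map_sub, ← rmul, h1, rmul]
    apply mem_br (hxN n hn)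
    have hxs' : x⁻¹ * s = s * x⁻¹ := by
      rw [inv_mul_eq_iff_eq_mul, ← mul_assoc, ← hxs]; group
    calc s * (x * n * x⁻¹) = (s * x) * n * x⁻¹ := by group
      _ = x * (s * n) * x⁻¹ := by rw [hxs]; group
      _ = x * n * (s * x⁻¹) := by rw [hs]; group
      _ = (x * n * x⁻¹) * s := by rw [← hxs']; group
  | zero => simp
  | add x y _ _ hx hy => rw [map_add]; exact add_mem hx hy
  | smul c x _ hx => rw [map_smul]; exact smul_mem _ _ hx

/-- the `N`-submodule generated by the fixed points of `u` on `[V, C_N(v)]` -/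
def gn (ρ : Representation F H V) (N : Subgroup H) (u v : H) : Submodule F V :=
  span F {y | ∃ n ∈ N, ∃ m ∈ br ρ N v, ρ u m = m ∧ y = ρ n m}

theorem gn_le {u v : H} (hN : ∀ x ∈ N, ∀ y ∈ N, x * y = y * x) : gn ρ N u v ≤ br ρ N v := by
  unfold gn
  rw [span_le]
  rintro _ ⟨n, hn, m, hm, -, rfl⟩
  exact br_inv_comm (fun n' hn' _ => hN n hn n' hn') hm

theorem inv_of {u v n : H} (hN : ∀ x ∈ N, ∀ y ∈ N, x * y = y * x) (huu : u * u = 1)
    (huv : u * v = v * u) (huN : ∀ n ∈ N, u * n * u⁻¹ ∈ N)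
    (h1 : ∀ n ∈ N, u * n = n * u → v * n = n * v → n = 1) (hn : n ∈ N) (hnv : v * n = n * v) :
    u * n * u⁻¹ = n⁻¹ := by
  have hu : u⁻¹ = u := inv_eq_of_mul_eq_one_left huu
  have h2 : n * (u * n * u⁻¹) = 1 := by
    apply h1 _ (N.mul_mem hn (huN n hn))
    · have h3 := hN n hn _ (huN n hn)
      rw [hu] at h3 ⊢
      calc u * (n * (u * n * u)) = u * (u * n * u * n) := by rw [h3]
        _ = (u * u) * n * u * n := by group
        _ = n * (u * n * 1) := by rw [huu]; group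
        _ = n * (u * n * (u * u)) := by rw [huu]
        _ = n * (u * n * u) * u := by group
    · rw [hu]
      calc v * (n * (u * n * u)) = (v * n) * (u * n * u) := by group
        _ = n * (v * u) * n * u := by rw [hnv]; group
        _ = n * u * (v * n) * u := by rw [← huv]; group
        _ = n * u * n * (v * u) := by rw [hnv]; group
        _ = n * (u * n * u) * v := by rw [← huv]; group
  exact (inv_eq_of_mul_eq_one_right h2).symm

theorem key {u v : H} (h2 : (2 : F) ≠ 0) (hN : ∀ x ∈ N, ∀ y ∈ N, x * y = y * x) (huu : u * u = 1)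
    (huv : u * v = v * u) (huN : ∀ n ∈ N, u * n * u⁻¹ ∈ N)
    (h1 : ∀ n ∈ N, u * n = n * u → v * n = n * v → n = 1)
    (hr : ∀ n ∈ N, ∃ r : ℕ, (r : F) ≠ 0 ∧ n ^ r = 1) (hodd : ∀ n ∈ N, ∃ k : ℕ, n ^ (2 * k) = n) :
    br ρ N v ≤ gn ρ N u v := by
  refine (br_le_br2 hr).trans ?_
  unfold br2
  rw [span_le]
  rintro _ ⟨n, hn, hnv, m, hm, rfl⟩
  obtain ⟨j, hj⟩ := hodd n hn
  set k : H := n ^ j with hk
  have hkk : k * k = n := by
    rw [hk, ← pow_add, ← two_mul, hj]
  have hkN : k ∈ N := N.pow_mem hn j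
  have hkv : v * k = k * v := comm_pow hnv j
  have hum : ρ u m ∈ br ρ N v := br_inv_norm huN huv.symm hm
  have hinv : ∀ x ∈ N, v * x = x * v → u * x = x⁻¹ * u := by
    intro x hx hxv
    rw [← inv_of hN huu huv huN h1 hx hxv]; group
  -- the `u`-fixed part
  have hA : ρ n (m + ρ u m) - (m + ρ u m) ∈ gn ρ N u v := by
    have h3 : m + ρ u m ∈ br ρ N v := add_mem hm hum
    have h4 : ρ u (m + ρ u m) = m + ρ u m := by
      rw [map_add, ← rmul, huu, rone, add_comm]
    apply sub_mem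
    · exact subset_span ⟨n, hn, _, h3, h4, rfl⟩
    · exact subset_span ⟨1, N.one_mem, _, h3, h4, (rone ρ _).symm⟩
  -- the other part
  have hB : ρ n (m - ρ u m) - (m - ρ u m) ∈ gn ρ N u v := by
    set y : V := m - ρ u m with hy
    have hyb : y ∈ br ρ N v := sub_mem hm hum
    have hyu : ρ u y = - y := by
      rw [hy, map_sub, ← rmul, huu, rone]; abel
    set t : V := ρ k y - ρ k⁻¹ y with ht
    have htb : t ∈ br ρ N v := by
      have h3 := sub_mem (mem_br (ρ := ρ) hkN hkv y) (mem_br (ρ := ρ) (s := v) (N.inv_mem hkN) (by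
        rw [eq_inv_mul_iff_mul_eq, ← mul_assoc, ← hkv]; group) y)
      have h4 : ρ k y - y - (ρ k⁻¹ y - y) = t := by rw [ht]; abel
      rwa [h4] at h3
    have htu : ρ u t = t := by
      have hkv' : v * k⁻¹ = k⁻¹ * v := by
        rw [eq_inv_mul_iff_mul_eq, ← mul_assoc, ← hkv]; group
      rw [ht, map_sub, ← rmul, ← rmul, hinv k hkN hkv, hinv k⁻¹ (N.inv_mem hkN) hkv', rmul, rmul, hyu, inv_inv,
        map_neg, map_neg]
      abel
    have h5 : ρ k t = ρ n y - y := by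
      rw [ht, map_sub, ← rmul, ← rmul, hkk, mul_inv_cancel, rone]
    rw [← h5]
    exact subset_span ⟨k, hkN, t, htb, htu, rfl⟩
  have h6 : ρ n m - m = (2 : F)⁻¹ • ((ρ n (m + ρ u m) - (m + ρ u m)) + (ρ n (m - ρ u m) - (m - ρ u m))) := by
    have h7 : (ρ n (m + ρ u m) - (m + ρ u m)) + (ρ n (m - ρ u m) - (m - ρ u m)) = (2 : F) • (ρ n m - m) := by
      rw [map_add, map_sub, two_smul]; abel
    rw [h7, smul_smul, inv_mul_cancel₀ h2, one_smul]
  rw [h6]
  exact smul_mem _ _ (add_mem hA hB)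

theorem gn_inv {u v x : H} (hxN : ∀ n ∈ N, x * n * x⁻¹ ∈ N) (hx : ∀ m : V, ρ u m = m → ρ x m = m) {y : V}
    (hy : y ∈ gn ρ N u v) : ρ x y ∈ gn ρ N u v := by
  induction hy using Submodule.span_induction with
  | mem y hy =>
    obtain ⟨n, hn, m, hm, hum, rfl⟩ := hy
    have h1 : x * n = (x * n * x⁻¹) * x := by group
    rw [← rmul, h1, rmul, hx m hum]
    exact subset_span ⟨_, hxN n hn, m, hm, hum, rfl⟩
  | zero => simp
  | add x y _ _ hx hy => rw [map_add]; exact add_mem hx hy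
  | smul c x _ hx => rw [map_smul]; exact smul_mem _ _ hx

/-- `[V, C_N(v)]` is invariant under elements fixing all fixed points of `u` -/
theorem br_inv_key {u v x : H} (h2 : (2 : F) ≠ 0) (hN : ∀ x ∈ N, ∀ y ∈ N, x * y = y * x) (huu : u * u = 1)
    (huv : u * v = v * u) (huN : ∀ n ∈ N, u * n * u⁻¹ ∈ N)
    (h1 : ∀ n ∈ N, u * n = n * u → v * n = n * v → n = 1)
    (hr : ∀ n ∈ N, ∃ r : ℕ, (r : F) ≠ 0 ∧ n ^ r = 1) (hodd : ∀ n ∈ N, ∃ k : ℕ, n ^ (2 * k) = n)
    (hxN : ∀ n ∈ N, x * n * x⁻¹ ∈ N) (hx : ∀ m : V, ρ u m = m → ρ x m = m) {y : V}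
    (hy : y ∈ br ρ N v) : ρ x y ∈ br ρ N v :=
  gn_le hN (gn_inv hxN hx (key h2 hN huu huv huN h1 hr hodd hy))

/-- the stabilizer of a submodule -/
def stb (ρ : Representation F H V) (W : Submodule F V) : Subgroup H where
  carrier := {x | (∀ w ∈ W, ρ x w ∈ W) ∧ (∀ w ∈ W, ρ x⁻¹ w ∈ W)}
  one_mem' := ⟨fun w hw => by rwa [rone], fun w hw => by rwa [inv_one, rone]⟩
  mul_mem' := by
    rintro x y ⟨hx, hx'⟩ ⟨hy, hy'⟩
    refine ⟨fun w hw => ?_, fun w hw => ?_⟩
    · rw [rmul]; exact hx _ (hy _ hw)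
    · rw [mul_inv_rev, rmul]; exact hy' _ (hx' _ hw)
  inv_mem' := by
    rintro x ⟨hx, hx'⟩
    refine ⟨hx', fun w hw => ?_⟩
    rw [inv_inv]; exact hx w hw

theorem cinv {s x : H} (h : s * x = x * s) : s * x⁻¹ = x⁻¹ * s := by
  rw [eq_inv_mul_iff_mul_eq, ← mul_assoc, ← h]; group

/-- the linear theorem -/
theorem main {a b : H} {X : Subgroup H} (h2 : (2 : F) ≠ 0) (hNX : N ≤ X)
    (hN : ∀ x ∈ N, ∀ y ∈ N, x * y = y * x) (haa : a * a = 1) (hbb : b * b = 1) (hab : a * b = b * a)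
    (hNa : ∀ n ∈ N, a * n * a⁻¹ ∈ N) (hNb : ∀ n ∈ N, b * n * b⁻¹ ∈ N) (hNx : ∀ x ∈ X, ∀ n ∈ N, x * n * x⁻¹ ∈ N)
    (h1 : ∀ n ∈ N, a * n = n * a → b * n = n * b → n = 1)
    (hr : ∀ n ∈ N, ∃ r : ℕ, (r : F) ≠ 0 ∧ n ^ r = 1) (hodd : ∀ n ∈ N, ∃ k : ℕ, n ^ (2 * k) = n)
    (hc : ∀ s, s = a ∨ s = b ∨ s = a * b → ∀ x ∈ X, ∀ y ∈ X, s * x = x * s → s * y = y * s → x * y = y * x)
    (hst : ∀ s, s = a ∨ s = b ∨ s = a * b → ∀ x ∈ X, s * x = x * s → ∀ m : V, ρ s m = m → ρ x m = m)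
    (hgX : X ≤ Subgroup.closure {x | x ∈ X ∧ (a * x = x * a ∨ b * x = x * b ∨ a * b * x = x * (a * b))})
    (hgN : N ≤ Subgroup.closure {x | x ∈ N ∧ (a * x = x * a ∨ b * x = x * b ∨ a * b * x = x * (a * b))})
    (hirr : ∀ W : Submodule F V, (∀ x ∈ X, ∀ w ∈ W, ρ x w ∈ W) → (∀ w ∈ W, ρ a w ∈ W) → (∀ w ∈ W, ρ b w ∈ W) →
      W = ⊥ ∨ W = ⊤) :
    (∀ n ∈ N, ρ n = 1) ∨ ∃ s, (s = a ∨ s = b ∨ s = a * b) ∧ ρ s = -1 := by
  have hsq : ∀ s, s = a ∨ s = b ∨ s = a * b → s * s = 1 := by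
    rintro s (rfl | rfl | rfl)
    · exact haa
    · exact hbb
    · calc a * b * (a * b) = a * (b * a) * b := by group
        _ = (a * a) * (b * b) := by rw [← hab]; group
        _ = 1 := by rw [haa, hbb, one_mul]
  have hcab : ∀ s t, (s = a ∨ s = b ∨ s = a * b) → (t = a ∨ t = b ∨ t = a * b) → s * t = t * s := by
    have hab' : Commute a b := hab
    rintro s t (rfl | rfl | rfl) (rfl | rfl | rfl)
    · rfl
    · exact hab
    · exact ((Commute.refl _).mul_right hab').eq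
    · exact hab.symm
    · rfl
    · exact (hab'.symm.mul_right (Commute.refl _)).eq
    · exact ((Commute.refl _).mul_right hab').symm.eq
    · exact (hab'.symm.mul_right (Commute.refl _)).symm.eq
    · rfl
  have hsN : ∀ s, (s = a ∨ s = b ∨ s = a * b) → ∀ n ∈ N, s * n * s⁻¹ ∈ N := by
    rintro s (rfl | rfl | rfl) n hn
    · exact hNa n hn
    · exact hNb n hn
    · have := hNa _ (hNb n hn)
      have e : a * (b * n * b⁻¹) * a⁻¹ = a * b * n * (a * b)⁻¹ := by group
      rwa [e] at this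
  -- the general step
  have step : ∀ u v w : H, (u = a ∨ u = b ∨ u = a * b) → (v = a ∨ v = b ∨ v = a * b) → (w = a ∨ w = b ∨ w = a * b) →
      (∀ x, (a * x = x * a ∨ b * x = x * b ∨ a * b * x = x * (a * b)) → (u * x = x * u ∨ v * x = x * v ∨
        w * x = x * w)) →
      (∀ n ∈ N, u * n = n * u → v * n = n * v → n = 1) → (∀ n ∈ N, w * n = n * w → v * n = n * v → n = 1) →
      br ρ N v = ⊥ ∨ ρ v = -1 := by
    intro u v w hu hv hw hcov hu1 hw1
    have hin0 : ∀ x ∈ X, (a * x = x * a ∨ b * x = x * b ∨ a * b * x = x * (a * b)) → 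
        ∀ y ∈ br ρ N v, ρ x y ∈ br ρ N v := by
      intro x hxX hx' y hy
      rcases hcov x hx' with h3 | h3 | h3
      · exact br_inv_key h2 hN (hsq u hu) (hcab u v hu hv) (hsN u hu) hu1 hr hodd (hNx x hxX)
          (hst u hu x hxX h3) hy
      · exact br_inv_comm (fun n hn hnv => hc v hv x hxX n (hNX hn) h3 hnv) hy
      · exact br_inv_key h2 hN (hsq w hw) (hcab w v hw hv) (hsN w hw) hw1 hr hodd (hNx x hxX)
          (hst w hw x hxX h3) hy
    have hin : (∀ x ∈ X, ∀ w ∈ br ρ N v, ρ x w ∈ br ρ N v) := by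
      intro x hx
      have hle : Subgroup.closure {x | x ∈ X ∧ (a * x = x * a ∨ b * x = x * b ∨ a * b * x = x * (a * b))} ≤
          stb ρ (br ρ N v) := by
        rw [Subgroup.closure_le]
        rintro x ⟨hxX, hx⟩
        refine ⟨hin0 x hxX hx, hin0 x⁻¹ (X.inv_mem hxX) ?_⟩
        rcases hx with h | h | h
        · exact Or.inl (cinv h)
        · exact Or.inr (Or.inl (cinv h))
        · exact Or.inr (Or.inr (cinv h))
      exact (hle (hgX hx)).1
    rcases hirr (br ρ N v) hin (fun y hy => br_inv_norm hNa (hcab v a hv (Or.inl rfl)) hy)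
      (fun y hy => br_inv_norm hNb (hcab v b hv (Or.inr (Or.inl rfl))) hy) with h3 | h3
    · exact Or.inl h3
    · right
      apply LinearMap.ext
      intro y
      have h4 : y ∈ br ρ N v := by rw [h3]; trivial
      have h5 := br_neg (hsq v hv) (fun n hn hnv => hst v hv n (hNX hn) hnv) h4
      rw [h5]; rfl
  have hab1 : ∀ n : H, a * b * n = n * (a * b) → a * n = n * a → b * n = n * b := by
    intro n h3 h4
    have h5 : a * (b * n) = a * (n * b) := by
      rw [← mul_assoc, h3, ← mul_assoc, ← mul_assoc, h4]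
    exact mul_left_cancel h5
  have hab2 : ∀ n : H, a * b * n = n * (a * b) → b * n = n * b → a * n = n * a := by
    intro n h3 h4
    have h5 : (a * n) * b = (n * a) * b := by
      rw [mul_assoc, ← h4, ← mul_assoc, h3, ← mul_assoc]
    exact mul_right_cancel h5
  have hbot : ∀ s, br ρ N s = ⊥ → ∀ n ∈ N, s * n = n * s → ρ n = 1 := by
    intro s hs n hn hns
    apply LinearMap.ext
    intro m
    have h3 := mem_br (ρ := ρ) hn hns m
    rw [hs, Submodule.mem_bot, sub_eq_zero] at h3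
    exact h3
  have ha := step b a (a * b) (Or.inr (Or.inl rfl)) (Or.inl rfl) (Or.inr (Or.inr rfl)) (fun x hx => by tauto)
    (fun n hn h3 h4 => h1 n hn h4 h3) (fun n hn h3 h4 => h1 n hn h4 (hab1 n h3 h4))
  have hb := step a b (a * b) (Or.inl rfl) (Or.inr (Or.inl rfl)) (Or.inr (Or.inr rfl)) (fun x hx => by tauto)
    (fun n hn h3 h4 => h1 n hn h3 h4) (fun n hn h3 h4 => h1 n hn (hab2 n h3 h4) h4)
  have hc' := step a (a * b) b (Or.inl rfl) (Or.inr (Or.inr rfl)) (Or.inr (Or.inl rfl)) (fun x hx => by tauto)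
    (fun n hn h3 h4 => h1 n hn h3 (hab1 n h4 h3)) (fun n hn h3 h4 => h1 n hn (hab2 n h4 h3) h3)
  rcases ha with ha | ha
  swap
  · exact Or.inr ⟨a, Or.inl rfl, ha⟩
  rcases hb with hb | hb
  swap
  · exact Or.inr ⟨b, Or.inr (Or.inl rfl), hb⟩
  rcases hc' with hc' | hc'
  swap
  · exact Or.inr ⟨a * b, Or.inr (Or.inr rfl), hc'⟩
  left
  intro n hn
  have hle : Subgroup.closure {x | x ∈ N ∧ (a * x = x * a ∨ b * x = x * b ∨ a * b * x = x * (a * b))} ≤
      MonoidHom.ker ρ := by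
    rw [Subgroup.closure_le]
    rintro x ⟨hxN, hx⟩
    change ρ x = 1
    rcases hx with h | h | h
    · exact hbot a ha x hxN h
    · exact hbot b hb x hxN h
    · exact hbot (a * b) hc' x hxN h
  exact hle (hgN hn)

end Cfsg.Agent.H22N
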